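import Cfsg.Agent.PQ.LE.Main
import Cfsg.Agent.KM.Ge
import Cfsg.Agent.LV.Red.Main
import Cfsg.Agent.H371.HT.Three
import Cfsg.Agent.H478.WalterAll

/-!
# S4982: heights in the groups with abelian Sylow subgroups (helper72)

The reduction of `KM/BK/Main.lean` inside the class of the groups with abelian Sylow `p`-subgroups; `kmx`, `le_all`.
-/

set_option autoImplicit false
set_option linter.style.haveILetI false
set_option linter.unusedSectionVars false

open Cfsg

namespace Cfsg.Agent.PQ.LE.KA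

open Cfsg.Agent Cfsg.Agent.Characters.Core Cfsg.Agent.Blocks Cfsg.Agent.TID.Red Cfsg.Agent.KM Cfsg.Agent.KM.BK
open Cfsg.Agent.H591.Reynolds (IsStab)
open Cfsg.Agent.SignalizersComponents.Components
open Cfsg.Agent.LV (AbS abS_iff)

universe u

/-- the quasisimple case -/
def QSa (p : ℕ) : Prop :=
  ∀ (M : Ideal AlgInt), IsPModular p M → ∀ (K : Type) [Group K] [Finite K], AbS p K → IsQuasisimple K →
    ¬ p ∣ Nat.card (Subgroup.center K) → IsCyclic (Subgroup.center K) →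
    ∀ (B : Set (IrrCharacter K)) (D : Subgroup K), IsPBlock M B → IsDefectGroup p M B D → IsMulCommutative D →
      ¬ IsCyclic D → 3 ≤ blockDefect p B →
      (∀ χ ∈ B, ∀ z ∈ Subgroup.center K, (χ : K → ℂ) z = (χ : K → ℂ) 1 → z = 1) → HZ p B

variable {p : ℕ} [hp : Fact p.Prime] {M : Ideal AlgInt} {G : Type} [Group G] [Finite G]
  {B : Set (IrrCharacter G)} {D : Subgroup G}

theorem abS_ext (Z : Subgroup G) [Z.Normal] (hZ : ¬ p ∣ Nat.card Z) (h : AbS p (G ⧸ Z)) : AbS p G :=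
  abS_iff.2 fun P a ha b hb => by
    obtain ⟨Q, hQ⟩ := (P.2.map (QuotientGroup.mk' Z)).exists_le_sylow
    have h1 : (a * b)⁻¹ * (b * a) ∈ Z := QuotientGroup.eq.1 (abS_iff.1 h Q _ (hQ ⟨a, ha, rfl⟩) _ (hQ ⟨b, hb, rfl⟩))
    obtain ⟨k, hk⟩ := P.2 ⟨_, mul_mem (inv_mem (mul_mem ha hb)) (mul_mem hb ha)⟩
    have h2 : (⟨_, h1⟩ : Z) = 1 := (pow_eq_one_iff_of_coprime ((hp.out.coprime_iff_not_dvd.2 hZ).pow_left k)).1
      ⟨Subtype.ext (congrArg Subtype.val hk :), pow_card_eq_one'⟩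
    exact inv_mul_eq_one.1 (congrArg Subtype.val h2)

open Cfsg.Agent.H592.Har Cfsg.Agent.H658.KKL.FongTwo in
/-- **The second reduction.** -/
theorem eq_of_fong' (hA : AbS p G) (hM : IsPModular p M) (hB : IsPBlock M B) (hD : IsDefectGroup p M B D) (ha : Ab D)
    {N : Subgroup G} [hN : N.Normal] (hc : IsPBlock M (cov B N)) (hst : IsStab (cov B N) ⊤) (hDN : D ⊓ N = ⊥)
    (ih : ∀ (H : Type) [Group H] [Finite H], (Subgroup.center H).index ≤ N.index → AbS p H → PP p M H) : EQ p B := by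
  have := Local.isPrime_of_isPModular hM
  letI := Fintype.ofFinite N
  have hd := defect_cov hM hB hD hc
  rw [hDN, Subgroup.bot_subgroupOf] at hd
  obtain ⟨θ, hθc, h0⟩ := exists_of_defect_bot hM hc hd
  have hcov := covH_cov (N := N) hB
  rw [hθc] at hst hcov
  have hinv : ∀ (g : G) (n : N), (θ : N → ℂ) ⟨g * n * g⁻¹, hN.conj_mem n n.2 g⟩ = (θ : N → ℂ) n := by
    intro g n
    have h1 : Covering.conjIrr N g θ = θ := (hst.mem_iff g).1 (Subgroup.mem_top g) θ rfl
    conv_rhs => rw [← h1]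
    rfl
  obtain ⟨E, i1, i2, ⟨C⟩⟩ := H289.KKL.exists_cover' p N θ hinv h0
  have hθ : IsIrrCharacter N (θ : N → ℂ) := θ.2
  have hdeg : charDegree C.ψ = charDegree (θ : N → ℂ) := by
    unfold charDegree
    rw [theta_one C]
  have h0' : (charDegree C.ψ).factorization p = (Nat.card C.s.range).factorization p := by
    rw [hdeg, card_range C, h0]
  have h0'' : MemLocalRing M (C.ψ 1 / (Nat.card C.s.range : ℂ)) := by
    rw [Basic.irr_one_eq_charDegree C.irr]
    exact DefectCard.memLocalRing_natDiv hM Nat.card_pos.ne' h0'.ge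
  obtain ⟨χ₀, hχ₀, θ', hθ', hne⟩ := hcov
  rw [Set.mem_singleton_iff] at hθ'
  subst hθ'
  rw [ov_subtype_iff] at hne
  obtain ⟨hBs, hX⟩ := star_block C hM hθ hinv h0'' hB ⟨χ₀, hχ₀, hne⟩
  obtain ⟨R, hR1, hR2, hR3, -⟩ := exists_defect C hM hθ h0'' h0' hX hBs ⟨χ₀, hχ₀⟩ hD hDN
  have hZ := Z_normal C
  obtain ⟨e⟩ := quotient_iso C
  have h1 : (Subgroup.center (E ⧸ C.s.range)).index ≤ N.index :=
    (Subgroup.index_antitone C.Z_le_center).trans (Nat.card_congr e.toEquiv).le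
  have hR : Ab R := by
    intro x hx y hy
    have h2 : C.π x * C.π y = C.π y * C.π x :=
      ha _ (hR1 ▸ Subgroup.mem_map_of_mem _ hx) _ (hR1 ▸ Subgroup.mem_map_of_mem _ hy)
    have h3 := hR2 (x * y * (y * x)⁻¹) (R.mul_mem (R.mul_mem hx hy) (R.inv_mem (R.mul_mem hy hx)))
      (by rw [map_mul, map_inv, map_mul, map_mul, h2, mul_inv_cancel])
    exact mul_inv_eq_one.1 h3
  exact eq_iff_hz.2 (height_of_star C hθ hX (eq_iff_hz.1 (ih _ h1 (abS_ext C.Z (fun h => C.ker_p (h.trans (Subgroup.card_map_dvd _ _)))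
    ((hA.of_surj _ (QuotientGroup.mk'_surjective N)).of_inj e.toMonoidHom e.injective)) _ _ hBs hR3 (hR.map _))))

theorem step (hQ : QSa p) (hM : IsPModular p M) (hA : AbS p G)
    (ih : ∀ (H : Type) [Group H] [Finite H], Lt H G → AbS p H → PP p M H) : PP p M G := by
  intro B D hB hD ha
  have := Local.isPrime_of_isPModular hM
  have hp : p.Prime := Fact.out
  have hDp := H592.Defect.isPGroup_of_isDefectGroup hD
  by_contra hne
  have ihs : ∀ T : Subgroup G, T ≠ ⊤ → PP p M T := fun T hT => ih T (lt_sub T hT) (hA.sub T)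
  have st : ∀ (N : Subgroup G) [N.Normal], IsPBlock M (cov B N) ∧ IsStab (cov B N) ⊤ :=
    fun N _ => (cov_or hM hB hD ha N ihs).resolve_left hne
  have eqc : ∀ (N : Subgroup G) [N.Normal], N ≠ ⊤ → EQ p (cov B N) :=
    fun N _ h => eq_cov_of_pp hM hB hD ha (st N).1 (ihs N h)
  have h1 : ∀ (N : Subgroup G) [N.Normal], ¬ p ∣ N.index → N = ⊤ := fun N _ h => by
    by_contra h'
    exact hne (eq_of_index h (eqc N h'))
  have h2 : ∀ (N : Subgroup G) [N.Normal], (∃ k, N.index = p ^ k) → N = ⊤ := fun N _ h => by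
    by_contra h'
    exact hne (eq_of_index_pow hM hB hD ha (st N).1 (st N).2 h (eqc N h'))
  have hreg : ∀ (N : Subgroup G) [N.Normal], Subgroup.centralizer (D : Set G) ≤ N → N = ⊤ := fun N _ h =>
    h1 N (not_dvd_index hM hB hD (st N).1 (st N).2 (ha.le_centralizer.trans h) h)
  have hperf := perfect_of h1 h2
  have hZ : ¬ p ∣ Nat.card (Subgroup.center G) := by
    intro h
    obtain ⟨z, hz⟩ := exists_prime_orderOf_dvd_card' p h
    have := zpowers_normal z.2
    have h3 : orderOf (z : G) = p := by rw [Subgroup.orderOf_coe, hz]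
    refine hne (BK.eq_of_central hM hB hD ha z.2 h3 (ih _ (lt_quot _ fun h4 => ?_) (hA.of_surj _ (QuotientGroup.mk'_surjective _))))
    rw [Subgroup.zpowers_eq_bot.1 h4, orderOf_one] at h3
    exact hp.ne_one h3.symm
  have hO : pCore p G = ⊥ := by
    have := Lib.Cores.pCore_normal (G := G) p
    have h3 := hreg (Subgroup.centralizer (pCore p G : Set G))
      (Subgroup.centralizer_le (S0912.result p M hM B hB D hD))
    have h4 : pCore p G ≤ Subgroup.center G := Subgroup.centralizer_eq_top_iff_subset.1 h3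
    exact Subgroup.card_eq_one.1 ((Lib.Cores.pCore_isPGroup (G := G) p).card_eq_or_dvd.resolve_right
      fun h5 => hZ (h5.trans (Subgroup.card_dvd_of_le h4)))
  have hF : ∀ (N : Subgroup G) [N.Normal], D ⊓ N = ⊥ → N ≤ Subgroup.center G := by
    intro N _ h
    by_contra h'
    have h3 : D ⊓ (N ⊔ Subgroup.center G) = ⊥ := by
      rw [eq_bot_iff]
      rintro d ⟨hd, hd'⟩
      obtain ⟨n, hn, z, hz, h4⟩ := Subgroup.mem_sup_of_normal_right.1 hd'
      have h5 : d ^ Nat.card (Subgroup.center G) ∈ D ⊓ N := by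
        refine ⟨D.pow_mem hd _, ?_⟩
        have h6 : z ^ Nat.card (Subgroup.center G) = 1 :=
          congrArg Subtype.val (pow_card_eq_one' (x := (⟨z, hz⟩ : Subgroup.center G)))
        have h7 : Commute n z := Subgroup.mem_center_iff.1 hz n
        rw [← h4, h7.mul_pow, h6, mul_one]
        exact N.pow_mem hn _
      rw [h, Subgroup.mem_bot] at h5
      obtain ⟨k, hk⟩ := hDp ⟨d, hd⟩
      have h6 : d ^ p ^ k = 1 := congrArg Subtype.val hk
      have h7 := (pow_gcd_eq_one.2 ⟨h6, h5⟩)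
      rw [Nat.Coprime.pow_left k ((Nat.Prime.coprime_iff_not_dvd hp).2 hZ), pow_one] at h7
      exact Subgroup.mem_bot.2 h7
    have h4 : Subgroup.center G < N ⊔ Subgroup.center G :=
      lt_of_le_of_ne le_sup_right fun h5 => h' (h5 ▸ le_sup_left)
    exact hne (eq_of_fong' hA hM hB hD ha (st _).1 (st _).2 h3 fun H _ _ h5 =>
      ih H (Or.inl (h5.trans_lt (Subgroup.index_strictAnti h4))))
  by_cases hE : layer G = ⊥
  · have := Lib.Cores.fittingSubgroup_normal (G := G)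
    have h3 : fittingSubgroup G ≤ Subgroup.center G := by
      refine hF _ (eq_bot_iff.2 fun x hx => ?_)
      obtain ⟨k, hk⟩ := hDp ⟨x, hx.1⟩
      exact hO ▸ Lib.GenFitting.mem_pCore_of_mem_fitting hx.2 (congrArg Subtype.val hk)
    have h4 : generalizedFittingSubgroup G ≤ Subgroup.center G := sup_le (hE ▸ bot_le) h3
    have h5 : Subgroup.center G = ⊤ := by
      rw [eq_top_iff, ← Subgroup.centralizer_eq_top_iff_subset.2 h4]
      exact Lib.GenFitting.centralizer_genFitting_le.trans h4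
    rw [h5, Subgroup.card_top] at hZ
    refine hne fun χ _ ψ _ => ?_
    have h6 := nu_le (p := p) χ
    rw [Nat.factorization_eq_zero_of_not_dvd hZ] at h6
    omega
  obtain ⟨K, hK⟩ : ∃ K : Subgroup G, IsComponent K := by
    by_contra h3
    exact hE (le_bot_iff.1 (layer_le_iff.2 fun K hK => absurd ⟨K, hK⟩ h3))
  have hnc : ∀ L : Subgroup G, IsComponent L → ¬ L ≤ Subgroup.centralizer (L : Set G) := fun L hL h =>
    quasisimple_not_isMulCommutative hL.2 ⟨⟨fun a b => Subtype.ext (Subgroup.mem_centralizer_iff.1 (h b.2) a a.2)⟩⟩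
  have hG0 : G0 G = ⊤ := by
    have := layer_normal G
    have := Zc_normal hM hB hD (st _).1
    have h3 := hF _ (inf_Zc hM hB hD (st _).1)
    have := G0_normal (G := G)
    refine hreg _ fun g hg => mem_G0.2 fun L hL => ?_
    have h4 : D ⊓ L ≠ ⊥ := fun h5 =>
      hnc L hL (((le_sSup (show L ∈ Zc D from ⟨hL, h5⟩)).trans h3).trans (Subgroup.center_le_centralizer _))
    obtain ⟨⟨x, hx⟩, hx1⟩ := Subgroup.ne_bot_iff_exists_ne_one.1 h4
    exact centralizer_le_normalizer_comp hO hL hx.2 (fun h5 => hx1 (Subtype.ext h5))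
      (hDp.to_le (Subgroup.zpowers_le.2 hx.1)) (Subgroup.mem_centralizer_iff.1 hg x hx.1).symm
  have hKn : K.Normal := by
    rw [← Subgroup.normalizer_eq_top_iff, eq_top_iff]
    exact fun g _ => mem_G0.1 (hG0 ▸ Subgroup.mem_top g) K hK
  by_cases hKt : K = ⊤
  · have hq : IsQuasisimple G := isQuasisimple_of_mulEquiv ((MulEquiv.subgroupCongr hKt).trans Subgroup.topEquiv) hK.2
    have hf : ∀ χ ∈ B, ∀ z ∈ Subgroup.center G, (χ : G → ℂ) z = (χ : G → ℂ) 1 → z = 1 := by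
      intro χ hχ z hz h
      by_contra h'
      have := zpowers_normal hz
      exact hne (eq_of_ker hM hB hD ha (Subgroup.zpowers z)
        (fun h3 => hZ (h3.trans (Subgroup.card_dvd_of_le (Subgroup.zpowers_le.2 hz)))) hχ (triv_zpowers χ hz h)
        (ih _ (lt_quot _ fun h3 => h' (Subgroup.zpowers_eq_bot.1 h3)) (hA.of_surj _ (QuotientGroup.mk'_surjective _))))
    obtain ⟨χ, hχ⟩ := Basic.isPBlock_nonempty hB
    refine hne (eq_iff_hz.2 (hQ M hM G hA hq hZ (cyclic_center χ (hf χ hχ)) B D hB hD (ab_iff.1 ha)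
      (fun h3 => hne (eq_iff_hz.2 (TID.Blk.height_cyclic hM hB hD h3))) ?_ hf))
    by_contra h3
    exact hne (eq_iff_hz.2 (TID.Blk.height_small hM hB (by omega)))
  · exact hne (eq_of_prod le_rfl (sup_centralizer_eq_top hperf hK) (eqc K hKt)
      (eqc _ fun h => hnc K hK (h ▸ le_top)))

theorem pp_of_qsa (hQ : QSa p) (hM : IsPModular p M) (m : ℕ) : ∀ (n : ℕ) (G : Type) [Group G] [Finite G],
    (Subgroup.center G).index ≤ m → Nat.card G ≤ n → AbS p G → PP p M G := by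
  induction m using Nat.strong_induction_on with
  | _ m ihm =>
    intro n
    induction n using Nat.strong_induction_on with
    | _ n ihn =>
      intro G _ _ h1 h2 hA
      refine step hQ hM hA fun H _ _ h => ?_
      rcases h with h | ⟨h, h'⟩
      · exact ihm _ (h.trans_le h1) _ H le_rfl le_rfl
      · exact ihn _ (h'.trans_le h2) H (h.trans h1) le_rfl

theorem qsa_of (R : At (fun p S _ => IsKnownSimple' S ∧ AbS p S) p) : QSa p := by
  intro M hM K _ _ h0 hK hz hc B D hB hD hA hn hb hf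
  have := hK.2
  refine R (K ⧸ Subgroup.center K) (fun hab => ?_) ⟨S0000.result, h0.of_surj _ (QuotientGroup.mk'_surjective _)⟩ K (QuotientGroup.mk' _) M B D
    ⟨hM, hB, hD, hA, hn, hb, hK, QuotientGroup.mk'_surjective _, QuotientGroup.ker_mk' _, hz, hc, hf⟩
  have h1 : commutator K ≤ Subgroup.center K := by
    rw [← QuotientGroup.ker_mk' (Subgroup.center K), commutator_def, Subgroup.commutator_le]
    intro a _ b _
    rw [MonoidHom.mem_ker, map_commutatorElement, commutatorElement_eq_one_iff_mul_comm]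
    exact hab.is_comm.comm _ _
  rw [hK.1.commutator_eq_top] at h1
  obtain ⟨x, y, hxy⟩ := exists_pair_ne (K ⧸ Subgroup.center K)
  obtain ⟨a, rfl⟩ := QuotientGroup.mk_surjective x
  obtain ⟨b, rfl⟩ := QuotientGroup.mk_surjective y
  exact hxy (QuotientGroup.eq.2 (h1 (Subgroup.mem_top _)))

theorem known3 [Fact (Nat.Prime 3)] : At (fun p S _ => IsKnownSimple' S ∧ AbS p S) 3 := by
  rintro S _ _ _ hS ⟨hC, hA⟩
  have nd : ∀ (F : Type) [Field F] [Fintype F], ((3 : ℕ) : F) ≠ 0 → ¬ 3 ∣ Fintype.card F := fun F _ _ h e =>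
    h ((CharP.cast_eq_zero_iff F (ringChar F) 3).2 ((prime_dvd_char_iff_dvd_card 3).2 e |> fun h1 =>
      ((Nat.prime_dvd_prime_iff_eq Nat.prime_three (CharP.char_is_prime F _)).1 h1).symm.dvd))
  have lie : IsLieTypeChar 3 S → Row 3 S := fun h => rowLie 3 S hS h
  have exc : IsExceptionalChevChar 3 S → Row 3 S := fun h =>
    lie (Or.inr (Or.inr (Or.inr (Or.inr (Or.inr (Or.inr (Or.inl h)))))))
  have tw : IsTwistedE6D4Char 3 S → Row 3 S := fun h =>
    lie (Or.inr (Or.inr (Or.inr (Or.inr (Or.inr (Or.inr (Or.inr (Or.inl h))))))))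
  rcases hC with h | h | h | h | h | h | h | h | h | h
  · exfalso
    apply hS
    have : Fact (Nat.card S).Prime := ⟨h⟩
    have := isCyclic_of_prime_card (p := Nat.card S) (α := S) rfl
    exact ⟨⟨fun a b => (IsCyclic.commGroup (α := S)).mul_comm a b⟩⟩
  · exact rowAlt 3 S hS h
  · obtain ⟨F, iF, iN, n, hn, hn2, he⟩ := h
    by_cases hF : ((3 : ℕ) : F) = 0
    · exact lie (Or.inl ⟨F, iF, iN, charP_of_cast hF, n, hn, hn2, he⟩)
    · exact A.row_psl core 3 S hS ⟨F, iF, iN, n, hF, hn, hn2, he⟩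
  · obtain ⟨F, iF, iN, n, hn, hn2, he⟩ := h
    by_cases hF : ((3 : ℕ) : F) = 0
    · exact lie (Or.inr (Or.inl ⟨F, iF, iN, charP_of_cast hF, n, hn, hn2, he⟩))
    · exact row_psp 3 S hS ⟨F, iF, iN, n, hF, hn, hn2, he⟩
  · obtain ⟨F, iF, iN, n, q, hq, hn, hn2, he⟩ := h
    by_cases hF : ((3 : ℕ) : F) = 0
    · exact lie (Or.inr (Or.inr (Or.inl ⟨F, iF, iN, charP_of_cast hF, n, q, hq, hn, hn2, he⟩)))
    · exact A.row_psu core Xc.row_u62 3 S hS ⟨F, iF, iN, n, q, hF, hq, hn, hn2, he⟩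
  · obtain ⟨F, iF, iN, m, hm, hodd, he⟩ := h
    by_cases hF : ((3 : ℕ) : F) = 0
    · exact lie (Or.inr (Or.inr (Or.inr (Or.inl ⟨F, iF, iN, charP_of_cast hF, m, hm, hodd, he⟩))))
    · exact row_oodd 3 S hS ⟨F, iF, iN, m, hF, hm, hodd, he⟩
  · obtain ⟨F, iF, iN, m, hm, he⟩ := h
    by_cases hF : ((3 : ℕ) : F) = 0
    · exact lie (Or.inr (Or.inr (Or.inr (Or.inr (Or.inl ⟨F, iF, iN, charP_of_cast hF, m, hm, he⟩)))))
    · exact row_oplus 3 S hS ⟨F, iF, iN, m, hF, hm, he⟩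
  · obtain ⟨F, iF, iN, m, a, b, hm, hab, he⟩ := h
    by_cases hF : ((3 : ℕ) : F) = 0
    · exact lie (Or.inr (Or.inr (Or.inr (Or.inr (Or.inr (Or.inl
        ⟨F, iF, iN, charP_of_cast hF, m, a, b, hm, hab, he⟩))))))
    · exact row_ominus 3 S hS ⟨F, iF, iN, m, a, b, hF, hm, hab, he⟩
  · rcases h with h | h | h | h | h | h | h | h | h | h | h
    · obtain ⟨F, iF, iN, h3, he⟩ := h
      by_cases hF : ((3 : ℕ) : F) = 0
      · exact exc ⟨F, iF, iN, charP_of_cast hF, Or.inl ⟨h3, he⟩⟩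
      · exact Ex.od_g2 3 S hS ⟨by decide, F, iF, iN, hF, h3, he⟩
    · obtain ⟨F, iF, iN, he⟩ := h
      by_cases hF : ((3 : ℕ) : F) = 0
      · exact exc ⟨F, iF, iN, charP_of_cast hF, Or.inr (Or.inl he)⟩
      · exact (H371.HT.not_ab_untw (D := Lie.chevF4) (by simp) (nd F hF) (hA.of_equiv he.some)).elim
    · obtain ⟨F, iF, iN, he⟩ := h
      by_cases hF : ((3 : ℕ) : F) = 0
      · exact exc ⟨F, iF, iN, charP_of_cast hF, Or.inr (Or.inr (Or.inl he))⟩
      · exact (H371.HT.not_ab_untw (D := Lie.chevE6) (by simp) (nd F hF) (hA.of_equiv he.some)).elim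
    · obtain ⟨F, iF, iN, he⟩ := h
      by_cases hF : ((3 : ℕ) : F) = 0
      · exact exc ⟨F, iF, iN, charP_of_cast hF, Or.inr (Or.inr (Or.inr (Or.inl he)))⟩
      · exact (H371.HT.not_ab_untw (D := Lie.chevE7) (by simp) (nd F hF) (hA.of_equiv he.some)).elim
    · obtain ⟨F, iF, iN, he⟩ := h
      by_cases hF : ((3 : ℕ) : F) = 0
      · exact exc ⟨F, iF, iN, charP_of_cast hF, Or.inr (Or.inr (Or.inr (Or.inr he)))⟩
      · exact (H371.HT.not_ab_untw (D := Lie.chevE8) (by simp) (nd F hF) (hA.of_equiv he.some)).elim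
    · obtain ⟨K, iF, iN, q, hq, hK, he⟩ := h
      by_cases hF : ((3 : ℕ) : K) = 0
      · exact tw ⟨K, iF, iN, charP_of_cast hF, q, hq, Or.inl ⟨hK, he⟩⟩
      · exact (H371.HT.not_ab_twE6 hq hK (nd K hF) (hA.of_equiv he.some)).elim
    · obtain ⟨K, iF, iN, q, hq, hK, he⟩ := h
      by_cases hF : ((3 : ℕ) : K) = 0
      · exact tw ⟨K, iF, iN, charP_of_cast hF, q, hq, Or.inr ⟨hK, he⟩⟩
      · exact Ex.od_td4 3 S hS ⟨by decide, K, iF, iN, q, hF, hq, hK, he⟩
    · by_cases hp2 : 3 = 2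
      · exact lie (Or.inr (Or.inr (Or.inr (Or.inr (Or.inr (Or.inr (Or.inr (Or.inr (Or.inl ⟨hp2, h⟩)))))))))
      · exact rowSz 3 S hS ⟨hp2, h⟩
    · by_cases hp3 : 3 = 3
      · exact lie (Or.inr (Or.inr (Or.inr (Or.inr (Or.inr (Or.inr (Or.inr (Or.inr (Or.inr (Or.inr
          ⟨hp3, h⟩))))))))))
      · exact rowRee 3 S hS ⟨hp3, h⟩
    · by_cases hp2 : 3 = 2
      · exact lie (Or.inr (Or.inr (Or.inr (Or.inr (Or.inr (Or.inr (Or.inr (Or.inr (Or.inr (Or.inl ⟨hp2, h⟩))))))))))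
      · exact Ex.row_ctf4 3 S hS ⟨hp2, h⟩
    · exact Sp.rowTits 3 S hS h
  · exact Sp.rowSpor 3 S hS h

theorem known2 [Fact (Nat.Prime 2)] : At (fun p S _ => IsKnownSimple' S ∧ AbS p S) 2 := by
  rintro S _ _ _ hS ⟨-, hA⟩
  have key : ∀ (F : Type) [Field F] [Fintype F], 4 ≤ Fintype.card F →
      Nonempty (S ≃* Matrix.ProjectiveSpecialLinearGroup (Fin 2) F) → Row 2 S := fun F iF iN h he => by
    by_cases hF : ((2 : ℕ) : F) = 0
    · exact rowLie 2 S hS (Or.inl ⟨F, iF, iN, charP_of_cast hF, 2, le_rfl, fun _ => h, he⟩)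
    · exact A.row_psl core 2 S hS ⟨F, iF, iN, 2, hF, le_rfl, fun _ => h, he⟩
  rcases H478.WalterAll.iso_of_abelian hS default (abS_iff.1 hA default) with
    ⟨F, _, _, n, h1, h2, he⟩ | ⟨F, _, _, -, h1, he⟩ | h | h
  · exact key F (h2 ▸ Nat.pow_le_pow_right two_pos h1) he
  · exact key F (by omega) he
  · exact rowRee 2 S hS ⟨by decide, h⟩
  · exact Sp.rowSpor 2 S hS (by unfold CSpor IsSporadicGroup; tauto)

theorem qsa : QSa p := by
  by_cases h2 : p = 2
  · subst h2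
    exact qsa_of known2
  rcases Ex.odd_cases h2 with rfl | h5
  · exact qsa_of known3
  · exact fun M hM K _ _ _ => (left_ge h5 (Sp.rowTits.at p) (Sp.rowSpor.at p)).qsp M hM K

/-- **abelian Sylow subgroups** -/
theorem kmg (hM : IsPModular p M) (G : Type u) [Group G] [Finite G] (hA : AbS p G) : KMg p M G := by
  have : Finite (Shrink.{0} G) := Finite.of_equiv G (equivShrink.{0} G)
  let e : Shrink.{0} G ≃* G := Shrink.mulEquiv
  exact pp_iff.1 (PP.of_equiv hM e (pp_of_qsa qsa hM _ _ (Shrink.{0} G) le_rfl le_rfl (hA.of_inj e.toMonoidHom e.injective)))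

theorem kmx : KMx.{u} p := fun M hM G _ _ Q hQ χ ψ hψ h1 => by
  have := hM.2.1.isPrime
  have hA : AbS p G := LV.abS_of_one Q fun a ha b hb => congrArg Subtype.val (hQ.is_comm.comm ⟨a, ha⟩ ⟨b, hb⟩)
  obtain ⟨D, hD⟩ := H592.Defect.exists_defectGroup p hM (B := blockOf M (χ : G → ℂ)) ⟨χ, rfl⟩
  obtain ⟨R, hR⟩ := (IsPGroup.of_card (S0908.result p M hM _ ⟨χ, rfl⟩ D hD)).exists_le_sylow
  have h2 := kmg hM G hA _ D ⟨χ, rfl⟩ hD ⟨⟨fun a b => Subtype.ext (abS_iff.1 hA R a (hR a.2) b (hR b.2))⟩⟩ χ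
    (Blocks.Basic.mem_blockOf_self χ)
  rw [blockHeight, sInf_eq_zero hψ h1, Nat.sub_zero] at h2
  exact not_dvd_of_fact h2

end Cfsg.Agent.PQ.LE.KA

namespace Cfsg.Agent.PQ.LE

/-- **S4982, from right to left** -/
theorem le_all {G : Type*} [Group G] [Finite G] {p q : ℕ} [Fact p.Prime] [Fact q.Prime] (hpq : p ≠ q) (h : Loc p q G)
    (χ : IrrCharacter G) : ¬ p ∣ charDegree (χ : G → ℂ) ↔ ¬ q ∣ charDegree (χ : G → ℂ) :=
  le_of hpq KA.kmx KA.kmx h χ

end Cfsg.Agent.PQ.LE
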