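import Cfsg.Agent.KM.BK.Defs
import Cfsg.Agent.H673.OC.Glaub
import Cfsg.Agent.H345.K4.CentArg
import Cfsg.Agent.H686.K4.Integral
import Cfsg.Agent.H669.Basic
import Cfsg.Agent.H592.Defect
import Cfsg.Agent.H650.WSum
import Cfsg.Agent.S0908
import Cfsg.Agent.S0917
import Cfsg.Agent.S0923

/-!
# S4982, from the local condition to the degrees (helper72)

`P` is a Sylow `p`-subgroup, `Q` an abelian Sylow `q`-subgroup which centralises `P` and contains all `q`-elements of the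
centraliser of `P`.  If the blocks of maximal defect of the groups with abelian Sylow `q`-subgroups have all heights zero
(`KMx`), then a degree which is prime to `p` is prime to `q`.
-/

set_option autoImplicit false
set_option linter.unusedSectionVars false

namespace Cfsg.Agent.PQ.LE

open Cfsg Cfsg.Agent.Characters.Core Cfsg.Agent.H673.OC

universe u

/-- heights in the blocks of maximal defect of the groups with abelian Sylow `q`-subgroups -/
def KMx (q : ℕ) : Prop :=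
  ∀ (M : Ideal AlgInt), IsPModular q M → ∀ (G : Type u) [Group G] [Finite G] (Q : Sylow q G),
    IsMulCommutative (Q : Subgroup G) → ∀ χ ψ : IrrCharacter G, ψ ∈ blockOf M (χ : G → ℂ) →
      ¬ q ∣ charDegree (ψ : G → ℂ) → ¬ q ∣ charDegree (χ : G → ℂ)

variable {G : Type u} [Group G] [Finite G] {p q : ℕ} [hp : Fact p.Prime] [hq : Fact q.Prime]

theorem sInf_eq_zero {B : Set (IrrCharacter G)} {ψ : IrrCharacter G} (h : ψ ∈ B) (hψ : ¬ q ∣ charDegree (ψ : G → ℂ)) :
    sInf ((fun χ : IrrCharacter G => (charDegree (χ : G → ℂ)).factorization q) '' B) = 0 :=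
  Nat.sInf_eq_zero.2 (Or.inl ⟨ψ, h, Nat.factorization_eq_zero_of_not_dvd hψ⟩)

theorem not_dvd_of_fact {χ : IrrCharacter G} (h : (charDegree (χ : G → ℂ)).factorization q = 0) :
    ¬ q ∣ charDegree (χ : G → ℂ) := fun e =>
  (hq.out.factorization_pos_of_dvd (Blocks.Basic.charDegree_pos χ.2).ne' e).ne' h

theorem kmx_of (h : KM.BK.KMp.{u} q) : KMx.{u} q := fun M hM G _ _ Q hQ χ ψ hψ h1 => by
  have := hM.2.1.isPrime
  obtain ⟨D, hD⟩ := H592.Defect.exists_defectGroup q hM (B := blockOf M (χ : G → ℂ)) ⟨χ, rfl⟩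
  obtain ⟨R, hR⟩ := (IsPGroup.of_card (S0908.result q M hM _ ⟨χ, rfl⟩ D hD)).exists_le_sylow
  have h2 := h M hM G _ D ⟨χ, rfl⟩ hD ⟨⟨fun a b => Subtype.ext (by
    have h3 : (⟨a, hR a.2⟩ * ⟨b, hR b.2⟩ : (R : Subgroup G)) = ⟨b, hR b.2⟩ * ⟨a, hR a.2⟩ :=
      (R.equiv Q).injective (by rw [map_mul, map_mul, hQ.is_comm.comm])
    simpa using h3)⟩⟩ χ (Blocks.Basic.mem_blockOf_self χ)
  rw [blockHeight, sInf_eq_zero hψ h1, Nat.sub_zero] at h2
  exact not_dvd_of_fact h2

/-- a conjugate of `y` in the coset of `y` modulo the centre -/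
theorem eq_of_central {y c : G} (hy : ¬ q ∣ (Subgroup.centralizer ({y} : Set G)).index) {k : ℕ}
    (h : c * y * c⁻¹ * y⁻¹ ∈ Subgroup.center G) (hk : orderOf (c * y * c⁻¹ * y⁻¹) = q ^ k) : c * y * c⁻¹ = y := by
  let T : Subgroup G := (Subgroup.centralizer {(y : G ⧸ Subgroup.center G)}).comap (QuotientGroup.mk' _)
  have hT : ∀ t, t ∈ T ↔ t * y * t⁻¹ * y⁻¹ ∈ Subgroup.center G := fun t => by
    rw [Subgroup.mem_comap, Subgroup.mem_centralizer_singleton_iff, ← QuotientGroup.eq_one_iff]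
    simp only [QuotientGroup.mk'_apply, QuotientGroup.mk_mul, QuotientGroup.mk_inv]
    rw [mul_inv_eq_one, mul_inv_eq_iff_eq_mul]
  let φ : T →* G := MonoidHom.mk' (fun t => t * y * (t : G)⁻¹ * y⁻¹) fun a b => by
    have h1 := Subgroup.mem_center_iff.1 ((hT b).1 b.2) (y * (a : G)⁻¹ * y⁻¹ * y * a * y⁻¹)
    have h2 := Subgroup.mem_center_iff.1 ((hT b).1 b.2) a
    have h3 := Subgroup.mem_center_iff.1 ((hT b).1 b.2) (y * (a : G)⁻¹ * y⁻¹)
    rw [Subgroup.coe_mul]
    calc (a : G) * b * y * ((a : G) * b)⁻¹ * y⁻¹ = a * (((b : G) * y * (b : G)⁻¹ * y⁻¹) * (y * (a : G)⁻¹ * y⁻¹)) := by group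
      _ = _ := by rw [← h3]; group
  have h1 : φ.ker = (Subgroup.centralizer ({y} : Set G)).subgroupOf T := by
    ext t
    rw [MonoidHom.mem_ker, Subgroup.mem_subgroupOf, Subgroup.mem_centralizer_singleton_iff]
    change (t : G) * y * (t : G)⁻¹ * y⁻¹ = 1 ↔ _
    rw [mul_inv_eq_one, mul_inv_eq_iff_eq_mul]
  have h2 : q ^ k ∣ (Subgroup.centralizer ({y} : Set G)).index := by
    refine (hk ▸ Subgroup.orderOf_dvd_natCard φ.range ⟨⟨c, (hT c).2 h⟩, rfl⟩).trans ?_
    rw [← Subgroup.index_ker, h1]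
    refine Subgroup.relIndex_dvd_index_of_le fun t ht => (hT t).2 ?_
    rw [Subgroup.mem_centralizer_singleton_iff.1 ht, mul_inv_cancel_right, mul_inv_cancel]
    exact one_mem _
  obtain rfl : k = 0 := by_contra fun e => hy ((dvd_pow_self q e).trans h2)
  rwa [pow_zero, orderOf_eq_one_iff, mul_inv_eq_one] at hk

/-- the values on the non-central elements of `Q` determine the degree -/
theorem dvd_of_cong {P Q : Subgroup G} (hP : IsPGroup p P) (hQ : IsPGroup q Q) (hi : ¬ q ∣ Q.index)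
    (hab : ∀ a ∈ Q, ∀ b ∈ Q, a * b = b * a) (hc : ∀ a ∈ P, ∀ b ∈ Q, a * b = b * a)
    (hn : ∀ x : G, (∀ a ∈ P, a * x = x * a) → (∃ k, orderOf x = q ^ k) → x ∈ Q) {χ : IrrCharacter G}
    (h : ∀ y ∈ Q, y ∉ Subgroup.center G → Cong p ((χ : G → ℂ) y) 0) {y : G} (hy : y ∈ Q) (hz : y ∉ Subgroup.center G) :
    p ∣ charDegree (χ : G → ℂ) := by
  classical
  have := Fintype.ofFinite G
  have ho : ∀ x ∈ Q, ∃ k, orderOf x = q ^ k := fun x hx => by
    simpa only [Subgroup.orderOf_mk] using IsPGroup.iff_orderOf.1 hQ ⟨x, hx⟩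
  have h1 := Cong.sum_fixed (hP.map (ConjAct.toConjAct (G := G)).toMonoidHom)
    (fun c : G => if IsConj y c then (χ : G → ℂ) (c * y⁻¹) else 0)
    (by
      rintro ⟨_, a, ha, rfl⟩ c
      have h1 : IsConj c (a * c * a⁻¹) := isConj_iff.2 ⟨a, rfl⟩
      change (if IsConj y (a * c * a⁻¹) then (χ : G → ℂ) (a * c * a⁻¹ * y⁻¹) else 0) = _
      refine if_congr ⟨fun e => e.trans h1.symm, fun e => e.trans h1⟩ ?_ rfl
      rw [mul_assoc, hc _ (P.inv_mem ha) _ (Q.inv_mem hy), ← mul_assoc, mul_assoc a]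
      exact isIrr_isClassFunction χ.2 _ _)
    fun c => by
      split_ifs
      exacts [isIntegral_irr χ _, isIntegral_zero]
  have h2 : Cong p (∑ c : G, if IsConj y c then (χ : G → ℂ) (c * y⁻¹) else 0) 0 := by
    have h3 := (h _ (Q.inv_mem hy) fun e => hz (inv_inv y ▸ inv_mem e)).mul_left (Blocks.Central.isIntegral_centralChar χ.2 y)
    rw [mul_zero, ← H345.K4.CentArg.sum_class χ.2] at h3
    convert h3
  have h3 := Cong.sum (p := p) (Finset.univ.filter (· ∈ MulAction.fixedPoints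
      (P.map (ConjAct.toConjAct (G := G)).toMonoidHom) G))
    (f := fun c : G => if IsConj y c then (χ : G → ℂ) (c * y⁻¹) else 0)
    (g := fun c : G => if c = y then (χ : G → ℂ) 1 else 0) fun c hc' => by
      by_cases h4 : c = y
      · rw [if_pos h4, h4, if_pos (IsConj.refl y), mul_inv_cancel]
        exact Cong.refl _
      rw [if_neg h4]
      split_ifs with h5
      swap
      · exact Cong.refl _
      obtain ⟨x, rfl⟩ := isConj_iff.1 h5
      have h6 : x * y * x⁻¹ ∈ Q := hn _ (fun a ha => mul_inv_eq_iff_eq_mul.1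
        ((Finset.mem_filter.1 hc').2 ⟨_, a, ha, rfl⟩)) ((ho y hy).imp fun k hk => by rw [← hk]; exact (MulAut.conj x).orderOf_eq y)
      refine h _ (Q.mul_mem h6 (Q.inv_mem hy)) fun e => h4 ?_
      obtain ⟨k, hk⟩ := ho _ (Q.mul_mem h6 (Q.inv_mem hy))
      exact eq_of_central (fun e => hi (e.trans (Subgroup.index_dvd_of_le fun a ha =>
        Subgroup.mem_centralizer_singleton_iff.2 (hab a ha y hy)))) e hk
  rw [Finset.sum_ite_eq', if_pos (Finset.mem_filter.2 ⟨Finset.mem_univ _, by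
    rintro ⟨_, a, ha, rfl⟩
    exact mul_inv_eq_iff_eq_mul.2 (hc a ha y hy)⟩)] at h3
  obtain ⟨z, hz, e⟩ := (h3.symm.trans h1.symm).trans h2
  rw [sub_zero, Blocks.Basic.irr_one_eq_charDegree χ.2, ← Int.cast_natCast] at e
  exact Int.natCast_dvd_natCast.1 (Cong.dvd_of_integral hp.out.ne_zero hz e)

/-- the second main theorem at a `q`-element -/
theorem cong_of_induced {M : Ideal AlgInt} (hM : IsPModular q M) (χ : IrrCharacter G) {y : G} (hy : ∃ k, orderOf y = q ^ k)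
    (h : ∀ ξ : IrrCharacter (Subgroup.centralizer ({y} : Set G)), IsInducedBlock M (Subgroup.centralizer ({y} : Set G))
      (blockOf M (ξ : Subgroup.centralizer ({y} : Set G) → ℂ)) (blockOf M (χ : G → ℂ)) →
      p ∣ charDegree (ξ : Subgroup.centralizer ({y} : Set G) → ℂ)) : Cong p ((χ : G → ℂ) y) 0 := by
  classical
  have := hM.2.1.isPrime
  set C := Subgroup.centralizer ({y} : Set G)
  have := Fintype.ofFinite C
  have := finite_irr (G := C)
  have := Fintype.ofFinite (IrrCharacter C)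
  have hyC : y ∈ C := Subgroup.mem_centralizer_singleton_iff.2 rfl
  have h1 : IsClassFunction C fun c : C => (χ : G → ℂ) (y * c) := fun a b => by
    have h1 := Subgroup.mem_centralizer_singleton_iff.1 b.2
    change (χ : G → ℂ) (y * (b * a * (b : G)⁻¹)) = (χ : G → ℂ) (y * a)
    rw [← mul_assoc, ← mul_assoc, ← h1, mul_assoc (b : G)]
    exact isIrr_isClassFunction χ.2 _ _
  have h2 := congrFun (classFunction_eq_sum h1) 1
  rw [OneMemClass.coe_one, mul_one, Finset.sum_apply, ← Finset.sum_fiberwise_of_maps_to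
    (t := Finset.univ.image fun ξ : IrrCharacter C => blockOf M (ξ : C → ℂ))
    (g := fun ξ : IrrCharacter C => blockOf M (ξ : C → ℂ)) fun ξ hξ => Finset.mem_image_of_mem _ hξ] at h2
  rw [h2, ← Finset.sum_const_zero]
  refine Cong.sum _ fun b hb => ?_
  obtain ⟨ξ, -, rfl⟩ := Finset.mem_image.1 hb
  by_cases h3 : IsInducedBlock M C (blockOf M (ξ : C → ℂ)) (blockOf M (χ : G → ℂ))
  · rw [← Finset.sum_const_zero]
    refine Cong.sum _ fun η hη => ?_
    obtain ⟨n, hn⟩ := h η ((Finset.mem_filter.1 hη).2 ▸ h3)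
    refine ⟨classInner (fun c : C => (χ : G → ℂ) (y * c)) (η : C → ℂ) * n,
      (H686.K4.isIntegral_classInner (χ := fun c : C => (χ : G → ℂ) c) (z := ⟨y, hyC⟩)
        (isCharacter_comp C.subtype (isIrr_isCharacter χ.2)) (Subgroup.mem_center_iff.2 fun c =>
          Subtype.ext (Subgroup.mem_centralizer_singleton_iff.1 c.2)) η).mul (isIntegral_natCast n), ?_⟩
    rw [Pi.smul_apply, smul_eq_mul, Blocks.Basic.irr_one_eq_charDegree η.2, hn, Nat.cast_mul]
    ring
  · refine Cong.of_eq (((Finset.sum_congr ?_ fun _ _ => rfl).trans (Finset.sum_apply _ _ _).symm).trans ((congrFun (H650.blockPart_eq_sum_filter _ _) 1).symm.trans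
      (S0923.result q M hM y hy _ ⟨χ, rfl⟩ χ (Blocks.Basic.mem_blockOf_self χ) _ ⟨ξ, rfl⟩ h3 1
        (by rw [orderOf_one]; exact hq.out.not_dvd_one))))
    refine Finset.filter_congr fun η _ => ⟨fun e => e ▸ Blocks.Basic.mem_blockOf_self η, fun e => ?_⟩
    exact (Blocks.Basic.isPBlock_eq_blockOf ⟨ξ, rfl⟩ e).symm

/-- an induced block of maximal defect -/
theorem exists_of_induced {M : Ideal AlgInt} (hM : IsPModular q M) {H : Subgroup G} (hH : ¬ q ∣ H.index)
    {χ : IrrCharacter G} (hχ : q ∣ charDegree (χ : G → ℂ)) {ξ : IrrCharacter H} (hξ : ¬ q ∣ charDegree (ξ : H → ℂ))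
    (h : IsInducedBlock M H (blockOf M (ξ : H → ℂ)) (blockOf M (χ : G → ℂ))) :
    ∃ ψ ∈ blockOf M (χ : G → ℂ), ¬ q ∣ charDegree (ψ : G → ℂ) := by
  have := hM.2.1.isPrime
  obtain ⟨D, hD⟩ := H592.Defect.exists_defectGroup q hM h.1
  obtain ⟨E, hE, hDE⟩ := S0917.result q M hM H _ h.1 _ h.2.1 h D hD
  have h1 := Subgroup.card_le_of_le hDE
  rw [Subgroup.card_map_of_injective H.subtype_injective, S0908.result q M hM _ h.1 D hD, S0908.result q M hM _ h.2.1 E hE,
    Nat.pow_le_pow_iff_right hq.out.one_lt, blockDefect, blockDefect,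
    sInf_eq_zero (Blocks.Basic.mem_blockOf_self ξ) hξ] at h1
  have h2 := congrArg (fun n => n.factorization q) H.card_mul_index
  simp only [Nat.factorization_mul Nat.card_pos.ne' (Subgroup.FiniteIndex.index_ne_zero (H := H)), Finsupp.add_apply,
    Nat.factorization_eq_zero_of_not_dvd hH] at h2
  have h3 := hq.out.factorization_pos_of_dvd Nat.card_pos.ne'
    (hχ.trans ((H669.Basic.charDegree_dvd_index_center χ.2).trans (Subgroup.index_dvd_card _)))
  obtain ⟨ψ, h4, h5⟩ := Nat.sInf_mem (s := (fun χ : IrrCharacter G => (charDegree (χ : G → ℂ)).factorization q) ''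
    blockOf M (χ : G → ℂ)) ⟨_, χ, Blocks.Basic.mem_blockOf_self χ, rfl⟩
  exact ⟨ψ, h4, not_dvd_of_fact (by dsimp only at h5; omega)⟩

/-- **The inclusion.** -/
theorem dvd_of_dvd (hK : KMx.{u} q) : ∀ (n : ℕ) (G : Type u) [Group G] [Finite G], Nat.card G = n →
    ∀ P Q : Subgroup G, IsPGroup p P → ¬ p ∣ P.index → IsPGroup q Q → ¬ q ∣ Q.index →
    (∀ a ∈ Q, ∀ b ∈ Q, a * b = b * a) → (∀ a ∈ P, ∀ b ∈ Q, a * b = b * a) →
    (∀ x : G, (∀ a ∈ P, a * x = x * a) → (∃ k, orderOf x = q ^ k) → x ∈ Q) →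
    ∀ χ : IrrCharacter G, q ∣ charDegree (χ : G → ℂ) → p ∣ charDegree (χ : G → ℂ) := by
  intro n
  induction n using Nat.strong_induction_on with
  | _ n ih =>
  intro G _ _ hn P Q hP hPi hQ hQi hab hc hx χ hχ
  obtain ⟨M, hM⟩ := Blocks.ExistsModular.exists_isPModular hq.out
  obtain ⟨y₀, h1, h2⟩ : ∃ y ∈ Q, y ∉ Subgroup.center G := by
    by_contra! h
    exact hQi (hχ.trans ((H669.Basic.charDegree_dvd_index_center χ.2).trans (Subgroup.index_dvd_of_le h)))
  refine dvd_of_cong hP hQ hQi hab hc hx (fun y hy hz => cong_of_induced hM χ ?_ fun ξ hξ => ?_) h1 h2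
  · simpa only [Subgroup.orderOf_mk] using IsPGroup.iff_orderOf.1 hQ ⟨y, hy⟩
  have hPC : P ≤ Subgroup.centralizer ({y} : Set G) := fun a ha => Subgroup.mem_centralizer_singleton_iff.2 (hc a ha y hy)
  have hQC : Q ≤ Subgroup.centralizer ({y} : Set G) := fun a ha => Subgroup.mem_centralizer_singleton_iff.2 (hab a ha y hy)
  have hlt : Nat.card (Subgroup.centralizer ({y} : Set G)) < n :=
    hn ▸ lt_of_le_of_ne (Subgroup.card_le_card_group _) fun e => hz (Subgroup.mem_center_iff.2 fun g =>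
      Subgroup.mem_centralizer_singleton_iff.1 (Subgroup.eq_top_of_card_eq _ e ▸ Subgroup.mem_top g))
  refine ih _ hlt _ rfl (P.subgroupOf _) (Q.subgroupOf _) (hP.comap_subtype)
    (fun e => hPi (e.trans (Subgroup.relIndex_dvd_index_of_le hPC))) (hQ.comap_subtype)
    (fun e => hQi (e.trans (Subgroup.relIndex_dvd_index_of_le hQC)))
    (fun a ha b hb => Subtype.ext (hab a ha b hb)) (fun a ha b hb => Subtype.ext (hc a ha b hb))
    (fun x h3 h4 => hx x (fun a ha => congrArg Subtype.val (h3 ⟨a, hPC ha⟩ ha)) (by simpa using h4)) ξ ?_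
  by_contra h3
  obtain ⟨ψ, h4, h5⟩ := exists_of_induced hM (fun e => hQi (e.trans (Subgroup.index_dvd_of_le hQC))) hχ h3 hξ
  exact hK M hM G (hQ.toSylow hQi) ⟨⟨fun a b => Subtype.ext (hab a a.2 b b.2)⟩⟩ χ ψ h4 h5 hχ

/-- the local condition of S4982 -/
def Loc (p q : ℕ) (G : Type u) [Group G] : Prop :=
  ∃ (P : Sylow p G) (Q : Sylow q G), IsMulCommutative ↥(P : Subgroup G) ∧ IsMulCommutative ↥(Q : Subgroup G) ∧
    Subgroup.normalizer ((P : Subgroup G) : Set G) = Subgroup.normalizer ((Q : Subgroup G) : Set G)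

theorem Loc.symm (h : Loc p q G) : Loc q p G := by
  obtain ⟨P, Q, h1, h2, h3⟩ := h
  exact ⟨Q, P, h2, h1, h3.symm⟩

theorem half (hpq : p ≠ q) (hK : KMx.{u} q) (h : Loc p q G) (χ : IrrCharacter G) (hχ : q ∣ charDegree (χ : G → ℂ)) :
    p ∣ charDegree (χ : G → ℂ) := by
  obtain ⟨P, Q, -, h2, h3⟩ := h
  refine dvd_of_dvd hK _ G rfl P Q P.2 P.not_dvd_index Q.2 Q.not_dvd_index
    (fun a ha b hb => congrArg Subtype.val (h2.is_comm.comm ⟨a, ha⟩ ⟨b, hb⟩)) (fun a ha b hb => ?_) (fun x h4 h5 => ?_) χ hχ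
  · have h4 : a ∈ Subgroup.normalizer ((Q : Subgroup G) : Set G) := h3 ▸ Subgroup.le_normalizer ha
    have h5 : b ∈ Subgroup.normalizer ((P : Subgroup G) : Set G) := h3 ▸ Subgroup.le_normalizer hb
    have h6 : a * b * a⁻¹ * b⁻¹ = 1 := Subgroup.mem_bot.1 ((IsPGroup.disjoint_of_ne p q hpq _ _ P.2 Q.2).le_bot
      (Subgroup.mem_inf.2 ⟨by simpa only [mul_assoc] using mul_mem ha ((Subgroup.mem_normalizer_iff.1 h5 _).1 (inv_mem ha)),
        mul_mem ((Subgroup.mem_normalizer_iff.1 h4 _).1 hb) (inv_mem hb)⟩))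
    rwa [mul_inv_eq_one, mul_inv_eq_iff_eq_mul] at h6
  · have h6 : x ∈ Subgroup.normalizer ((Q : Subgroup G) : Set G) :=
      h3 ▸ Subgroup.centralizer_le_normalizer _ (Subgroup.mem_centralizer_iff.2 h4)
    have h7 : IsPGroup q (Subgroup.zpowers x) := by
      obtain ⟨k, hk⟩ := h5
      exact IsPGroup.of_card (by rw [Nat.card_zpowers, hk])
    have h8 := Q.is_maximal' (IsPGroup.to_sup_of_normal_left' Q.2 h7 (Subgroup.zpowers_le.2 h6)) le_sup_left
    exact h8 ▸ Subgroup.mem_sup_right (Subgroup.mem_zpowers x)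

/-- **S4982, from right to left.** -/
theorem le_of (hpq : p ≠ q) (h1 : KMx.{u} p) (h2 : KMx.{u} q) (h : Loc p q G) (χ : IrrCharacter G) :
    ¬ p ∣ charDegree (χ : G → ℂ) ↔ ¬ q ∣ charDegree (χ : G → ℂ) :=
  not_congr ⟨half hpq.symm h1 h.symm χ, half hpq h2 h χ⟩

theorem le_of_km (hK : KM.BK.KMAll.{u}) (hpq : p ≠ q) (h : Loc p q G) (χ : IrrCharacter G) :
    ¬ p ∣ charDegree (χ : G → ℂ) ↔ ¬ q ∣ charDegree (χ : G → ℂ) :=
  le_of hpq (kmx_of (hK p)) (kmx_of (hK q)) h χ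

end Cfsg.Agent.PQ.LE
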